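import Groth.Prelude.Def_CycAlg
import Mathlib.RingTheory.Length
import Mathlib.RingTheory.HopkinsLevitzki
import Mathlib.RingTheory.Support
import Mathlib.RingTheory.LocalRing.MaximalIdeal.Basic
import Mathlib.RingTheory.KrullDimension.Module
import Mathlib.RingTheory.Ideal.Quotient.Noetherian

/-!
# Herbrand quotients: subquotients, exact hexagons
-/

set_option autoImplicit false
set_option linter.unusedSectionVars false

universe u v w

namespace Groth.Agent.CycAlgLib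

open LinearMap

variable {R : Type u} [CommRing R]

section Seq

variable {A : Type*} {B : Type*} {C : Type*} [AddCommGroup A] [Module R A] [AddCommGroup B] [Module R B]
  [AddCommGroup C] [Module R C]

theorem length_eq_range_add (f : A →ₗ[R] B) (g : B →ₗ[R] C) (h : Function.Exact f g) :
    Module.length R B = Module.length R (range f) + Module.length R (range g) := by
  refine Module.length_eq_add_of_exact (range f).subtype g.rangeRestrict (range f).injective_subtype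
    g.surjective_rangeRestrict ?_
  intro b
  simp only [Submodule.coe_subtype, Subtype.range_coe_subtype]
  rw [← Subtype.coe_inj]
  exact h b

theorem length_range_le (f : A →ₗ[R] B) : Module.length R (range f) ≤ Module.length R A :=
  Module.length_le_of_surjective f.rangeRestrict f.surjective_rangeRestrict

theorem length_lt_top_of_exact (f : A →ₗ[R] B) (g : B →ₗ[R] C) (h : Function.Exact f g)
    (hA : Module.length R A < ⊤) (hC : Module.length R C < ⊤) : Module.length R B < ⊤ := by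
  rw [length_eq_range_add f g h]
  exact WithTop.add_lt_top.2 ⟨(length_range_le f).trans_lt hA,
    (Module.length_le_of_injective (range g).subtype (range g).injective_subtype).trans_lt hC⟩

theorem length_toNat_eq (f : A →ₗ[R] B) (g : B →ₗ[R] C) (h : Function.Exact f g) (hB : Module.length R B < ⊤) :
    (Module.length R B).toNat = (Module.length R (range f)).toNat + (Module.length R (range g)).toNat := by
  rw [length_eq_range_add f g h] at hB ⊢
  exact ENat.toNat_add (WithTop.add_lt_top.1 hB).1.ne (WithTop.add_lt_top.1 hB).2.ne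

end Seq

/-- alternating sum in an exact hexagon -/
theorem hexagon {A₀ A₁ A₂ A₃ A₄ A₅ : Type v} [AddCommGroup A₀] [Module R A₀] [AddCommGroup A₁] [Module R A₁]
    [AddCommGroup A₂] [Module R A₂] [AddCommGroup A₃] [Module R A₃] [AddCommGroup A₄] [Module R A₄]
    [AddCommGroup A₅] [Module R A₅]
    {f₀ : A₀ →ₗ[R] A₁} {f₁ : A₁ →ₗ[R] A₂} {f₂ : A₂ →ₗ[R] A₃} {f₃ : A₃ →ₗ[R] A₄} {f₄ : A₄ →ₗ[R] A₅}
    {f₅ : A₅ →ₗ[R] A₀} (e₁ : Function.Exact f₀ f₁) (e₂ : Function.Exact f₁ f₂) (e₃ : Function.Exact f₂ f₃)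
    (e₄ : Function.Exact f₃ f₄) (e₅ : Function.Exact f₄ f₅) (e₀ : Function.Exact f₅ f₀)
    (h₀ : Module.length R A₀ < ⊤) (h₁ : Module.length R A₁ < ⊤) (h₂ : Module.length R A₂ < ⊤)
    (h₃ : Module.length R A₃ < ⊤) (h₄ : Module.length R A₄ < ⊤) (h₅ : Module.length R A₅ < ⊤) :
    ((Module.length R A₀).toNat : ℤ) - (Module.length R A₁).toNat + (Module.length R A₂).toNat
      - (Module.length R A₃).toNat + (Module.length R A₄).toNat - (Module.length R A₅).toNat = 0 := by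
  rw [length_toNat_eq _ _ e₀ h₀, length_toNat_eq _ _ e₁ h₁, length_toNat_eq _ _ e₂ h₂, length_toNat_eq _ _ e₃ h₃,
    length_toNat_eq _ _ e₄ h₄, length_toNat_eq _ _ e₅ h₅]
  push_cast
  ring

section SubQuot

variable {M M' M'' : Type v} [AddCommGroup M] [Module R M] [AddCommGroup M'] [Module R M'] [AddCommGroup M'']
  [Module R M'']

/-- the subquotient `Z / (B ∩ Z)` -/
abbrev Sq (Z B : Submodule R M) : Type v := ↥Z ⧸ B.submoduleOf Z

/-- induced map on subquotients -/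
def sqMap {Z B : Submodule R M} {Z' B' : Submodule R M'} (a : M →ₗ[R] M') (hZ : ∀ z ∈ Z, a z ∈ Z')
    (hB : ∀ z ∈ Z, z ∈ B → a z ∈ B') : Sq Z B →ₗ[R] Sq Z' B' :=
  Submodule.mapQ _ _ (a.restrict hZ) fun z hz => hB z z.2 hz

theorem sqMap_mk {Z B : Submodule R M} {Z' B' : Submodule R M'} (a : M →ₗ[R] M') (hZ : ∀ z ∈ Z, a z ∈ Z')
    (hB : ∀ z ∈ Z, z ∈ B → a z ∈ B') (z : Z) :
    sqMap a hZ hB (Submodule.Quotient.mk z) = Submodule.Quotient.mk ⟨a z, hZ z z.2⟩ := rfl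

theorem sq_mk_eq_zero {Z B : Submodule R M} (z : Z) : (Submodule.Quotient.mk z : Sq Z B) = 0 ↔ (z : M) ∈ B :=
  (Submodule.Quotient.mk_eq_zero _).trans Submodule.mem_comap

theorem sq_mk_eq_mk {Z B : Submodule R M} (z z' : Z) :
    (Submodule.Quotient.mk z : Sq Z B) = Submodule.Quotient.mk z' ↔ (z : M) - z' ∈ B :=
  (Submodule.Quotient.eq _).trans Submodule.mem_comap

theorem sqMap_exact {Z B : Submodule R M} {Z' B' : Submodule R M'} {Z'' B'' : Submodule R M''}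
    {a : M →ₗ[R] M'} {hZ : ∀ z ∈ Z, a z ∈ Z'} {hB : ∀ z ∈ Z, z ∈ B → a z ∈ B'}
    {a' : M' →ₗ[R] M''} {hZ' : ∀ z ∈ Z', a' z ∈ Z''} {hB' : ∀ z ∈ Z', z ∈ B' → a' z ∈ B''}
    (h0 : ∀ y ∈ Z, a' (a y) ∈ B'') (h1 : ∀ z ∈ Z', a' z ∈ B'' → ∃ y ∈ Z, z - a y ∈ B') :
    Function.Exact (sqMap a hZ hB) (sqMap a' hZ' hB') := by
  intro q
  obtain ⟨z, rfl⟩ := Submodule.Quotient.mk_surjective _ q
  rw [sqMap_mk, sq_mk_eq_zero]
  constructor
  · intro h
    obtain ⟨y, hy, hy'⟩ := h1 z z.2 h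
    exact ⟨Submodule.Quotient.mk ⟨y, hy⟩, ((sq_mk_eq_mk _ _).2 hy').symm⟩
  · rintro ⟨q, hq⟩
    obtain ⟨y, rfl⟩ := Submodule.Quotient.mk_surjective _ q
    rw [sqMap_mk, sq_mk_eq_mk] at hq
    have h2 := add_mem (h0 y y.2) (neg_mem (hB' _ (sub_mem (hZ y y.2) z.2) hq))
    simpa using h2

theorem sq_length_eq {Z B : Submodule R M} {Z' B' : Submodule R M'} (a : M →ₗ[R] M') (hZ : ∀ z ∈ Z, a z ∈ Z')
    (hB : ∀ z ∈ Z, z ∈ B → a z ∈ B') (hinj : ∀ z ∈ Z, a z ∈ B' → z ∈ B)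
    (hsurj : ∀ z' ∈ Z', ∃ z ∈ Z, z' - a z ∈ B') :
    Module.length R (Sq Z B) = Module.length R (Sq Z' B') := by
  refine (LinearEquiv.ofBijective (sqMap a hZ hB) ⟨?_, ?_⟩).length_eq
  · refine (injective_iff_map_eq_zero _).2 fun q hq => ?_
    obtain ⟨z, rfl⟩ := Submodule.Quotient.mk_surjective _ q
    rw [sqMap_mk, sq_mk_eq_zero] at hq
    exact (sq_mk_eq_zero _).2 (hinj z z.2 hq)
  · intro q
    obtain ⟨z, rfl⟩ := Submodule.Quotient.mk_surjective _ q
    obtain ⟨y, hy, hy'⟩ := hsurj z z.2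
    exact ⟨Submodule.Quotient.mk ⟨y, hy⟩, ((sq_mk_eq_mk _ _).2 hy').symm⟩

theorem length_sq_bot (Z : Submodule R M) : Module.length R (Sq Z ⊥) = Module.length R Z := by
  refine (LinearEquiv.length_eq ?_)
  exact Submodule.quotEquivOfEqBot _ (by simp [Submodule.submoduleOf])

/-- a short exact sequence of subquotients with the same bottom/top -/
theorem length_sq_add {Z B C : Submodule R M} (hBC : B ≤ C) (hCZ : C ≤ Z) :
    Module.length R (Sq Z B) = Module.length R (Sq C B) + Module.length R (Sq Z C) := by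
  refine Module.length_eq_add_of_exact
    (sqMap (Z := C) (B := B) (Z' := Z) (B' := B) LinearMap.id (fun z hz => hCZ hz) fun z _ hz => hz)
    (sqMap (Z := Z) (B := B) (Z' := Z) (B' := C) LinearMap.id (fun z hz => hz) fun z _ hz => hBC hz)
    ?_ ?_ (sqMap_exact (fun y hy => hy) fun z _ hz => ⟨z, hz, by simp⟩)
  · refine (injective_iff_map_eq_zero _).2 fun q hq => ?_
    obtain ⟨z, rfl⟩ := Submodule.Quotient.mk_surjective _ q
    rw [sqMap_mk, sq_mk_eq_zero] at hq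
    exact (sq_mk_eq_zero _).2 hq
  · intro q
    obtain ⟨z, rfl⟩ := Submodule.Quotient.mk_surjective _ q
    exact ⟨Submodule.Quotient.mk z, rfl⟩

theorem length_sq_le_top {Z B : Submodule R M} (h : Module.length R Z < ⊤) : Module.length R (Sq Z B) < ⊤ :=
  (Module.length_le_of_surjective (B.submoduleOf Z).mkQ (Submodule.mkQ_surjective _)).trans_lt h

end SubQuot

section Herbrand

open CycAlg

variable {M₁ N₁ M₂ N₂ M₃ N₃ : Type v} [AddCommGroup M₁] [Module R M₁] [AddCommGroup N₁] [Module R N₁]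
  [AddCommGroup M₂] [Module R M₂] [AddCommGroup N₂] [Module R N₂] [AddCommGroup M₃] [Module R M₃]
  [AddCommGroup N₃] [Module R N₃]

theorem herbrand_shortExact (φ₁ : M₁ →ₗ[R] N₁) (ψ₁ : N₁ →ₗ[R] M₁) (φ₂ : M₂ →ₗ[R] N₂)
    (ψ₂ : N₂ →ₗ[R] M₂) (φ₃ : M₃ →ₗ[R] N₃) (ψ₃ : N₃ →ₗ[R] M₃)
    (h₂ : IsPeriodic φ₂ ψ₂)
    (f₁ : M₁ →ₗ[R] M₂) (g₁ : N₁ →ₗ[R] N₂) (f₂ : M₂ →ₗ[R] M₃) (g₂ : N₂ →ₗ[R] N₃)
    (cφ₁ : φ₂ ∘ₗ f₁ = g₁ ∘ₗ φ₁) (cψ₁ : ψ₂ ∘ₗ g₁ = f₁ ∘ₗ ψ₁) (cφ₂ : φ₃ ∘ₗ f₂ = g₂ ∘ₗ φ₂) (cψ₂ : ψ₃ ∘ₗ g₂ = f₂ ∘ₗ ψ₂)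
    (hf₁ : Function.Injective f₁) (hg₁ : Function.Injective g₁) (hf₂ : Function.Surjective f₂)
    (hg₂ : Function.Surjective g₂) (hM : range f₁ = ker f₂) (hN : range g₁ = ker g₂)
    (htwo : (FinCoh R φ₁ ψ₁ ∧ FinCoh R φ₂ ψ₂) ∨ (FinCoh R φ₁ ψ₁ ∧ FinCoh R φ₃ ψ₃) ∨
      (FinCoh R φ₂ ψ₂ ∧ FinCoh R φ₃ ψ₃)) :
    FinCoh R φ₁ ψ₁ ∧ FinCoh R φ₂ ψ₂ ∧ FinCoh R φ₃ ψ₃ ∧
      herbrand R φ₂ ψ₂ = herbrand R φ₁ ψ₁ + herbrand R φ₃ ψ₃ := by
  have a1 : ∀ x, φ₂ (f₁ x) = g₁ (φ₁ x) := LinearMap.congr_fun cφ₁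
  have a2 : ∀ x, ψ₂ (g₁ x) = f₁ (ψ₁ x) := LinearMap.congr_fun cψ₁
  have a3 : ∀ x, φ₃ (f₂ x) = g₂ (φ₂ x) := LinearMap.congr_fun cφ₂
  have a4 : ∀ x, ψ₃ (g₂ x) = f₂ (ψ₂ x) := LinearMap.congr_fun cψ₂
  have p1 : ∀ x, φ₂ (ψ₂ x) = 0 := LinearMap.congr_fun h₂.1
  have p2 : ∀ x, ψ₂ (φ₂ x) = 0 := LinearMap.congr_fun h₂.2
  have kM : ∀ z, f₂ z = 0 → ∃ a, f₁ a = z := fun z hz => LinearMap.mem_range.1 (hM ▸ LinearMap.mem_ker.2 hz)
  have kN : ∀ z, g₂ z = 0 → ∃ a, g₁ a = z := fun z hz => LinearMap.mem_range.1 (hN ▸ LinearMap.mem_ker.2 hz)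
  have eM : ∀ a, f₂ (f₁ a) = 0 := fun a => LinearMap.mem_ker.1 (hM ▸ LinearMap.mem_range_self f₁ a)
  have eN : ∀ a, g₂ (g₁ a) = 0 := fun a => LinearMap.mem_ker.1 (hN ▸ LinearMap.mem_range_self g₁ a)
  -- the six subquotients of `M₂`, `N₂`
  let Z0 := (ker φ₁).map f₁
  let B0 := (range ψ₁).map f₁
  let Z2 := (ker φ₃).comap f₂
  let B2 := (range ψ₃).comap f₂
  let Z3 := (ker ψ₁).map g₁
  let B3 := (range φ₁).map g₁
  let Z5 := (ker ψ₃).comap g₂
  let B5 := (range φ₃).comap g₂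
  let F0 : Sq Z0 B0 →ₗ[R] Sq (ker φ₂) (range ψ₂) := sqMap LinearMap.id
    (by rintro _ ⟨a, ha, rfl⟩; simp [a1, LinearMap.mem_ker.1 ha])
    (by rintro _ - ⟨_, ⟨b, rfl⟩, rfl⟩; exact ⟨g₁ b, a2 b⟩)
  let F1 : Sq (ker φ₂) (range ψ₂) →ₗ[R] Sq Z2 B2 := sqMap LinearMap.id
    (fun z hz => by simp [Z2, a3, LinearMap.mem_ker.1 hz])
    (by rintro _ - ⟨b, rfl⟩; exact ⟨g₂ b, a4 b⟩)
  let F2 : Sq Z2 B2 →ₗ[R] Sq Z3 B3 := sqMap φ₂
    (fun z hz => by
      obtain ⟨b, hb⟩ := kN (φ₂ z) (by rw [← a3]; exact hz)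
      exact ⟨b, hf₁ (by rw [← a2, hb, p2, map_zero]), hb⟩)
    (fun z _ hz => by
      obtain ⟨c, hc⟩ := hz
      obtain ⟨w, rfl⟩ := hg₂ c
      obtain ⟨a, ha⟩ := kM (z - ψ₂ w) (by rw [map_sub, ← a4, hc, sub_self])
      refine ⟨φ₁ a, ⟨a, rfl⟩, ?_⟩
      rw [← a1, ha, map_sub, p1, sub_zero])
  let F3 : Sq Z3 B3 →ₗ[R] Sq (ker ψ₂) (range φ₂) := sqMap LinearMap.id
    (by rintro _ ⟨a, ha, rfl⟩; simp [a2, LinearMap.mem_ker.1 ha])
    (by rintro _ - ⟨_, ⟨b, rfl⟩, rfl⟩; exact ⟨f₁ b, a1 b⟩)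
  let F4 : Sq (ker ψ₂) (range φ₂) →ₗ[R] Sq Z5 B5 := sqMap LinearMap.id
    (fun z hz => by simp [Z5, a4, LinearMap.mem_ker.1 hz])
    (by rintro _ - ⟨b, rfl⟩; exact ⟨f₂ b, a3 b⟩)
  let F5 : Sq Z5 B5 →ₗ[R] Sq Z0 B0 := sqMap ψ₂
    (fun z hz => by
      obtain ⟨b, hb⟩ := kM (ψ₂ z) (by rw [← a4]; exact hz)
      exact ⟨b, hg₁ (by rw [← a1, hb, p1, map_zero]), hb⟩)
    (fun z _ hz => by
      obtain ⟨c, hc⟩ := hz
      obtain ⟨w, rfl⟩ := hf₂ c
      obtain ⟨a, ha⟩ := kN (z - φ₂ w) (by rw [map_sub, ← a3, hc, sub_self])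
      refine ⟨ψ₁ a, ⟨a, rfl⟩, ?_⟩
      rw [← a2, ha, map_sub, p2, sub_zero])
  have e1 : Function.Exact F0 F1 := sqMap_exact
    (by rintro _ ⟨a, -, rfl⟩; exact ⟨0, by simp [eM]⟩)
    (fun z hz ⟨c, hc⟩ => by
      obtain ⟨w, rfl⟩ := hg₂ c
      obtain ⟨a, ha⟩ := kM (z - ψ₂ w) (by rw [map_sub, ← a4, hc]; exact sub_self _)
      refine ⟨f₁ a, ⟨a, hg₁ (by rw [← a1, ha, map_sub, LinearMap.mem_ker.1 hz, p1, sub_zero, map_zero]), rfl⟩, ?_⟩
      simp [ha])
  have e2 : Function.Exact F1 F2 := sqMap_exact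
    (fun y hy => by simp [LinearMap.mem_ker.1 hy])
    (fun z hz ⟨_, ⟨a, rfl⟩, ha⟩ => ⟨z - f₁ a, by simp [a1, ha], by simp [B2, eM]⟩)
  have e3 : Function.Exact F2 F3 := sqMap_exact
    (fun y _ => ⟨y, rfl⟩)
    (fun z ⟨b, hb, hbz⟩ ⟨w, hw⟩ => ⟨w, by
      show φ₃ (f₂ w) = 0
      rw [a3, hw, show (LinearMap.id : N₂ →ₗ[R] N₂) z = z from rfl, ← hbz, eN], by
      simp [show φ₂ w = z from hw]⟩)
  have e4 : Function.Exact F3 F4 := sqMap_exact
    (by rintro _ ⟨a, -, rfl⟩; exact ⟨0, by simp [eN]⟩)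
    (fun z hz ⟨c, hc⟩ => by
      obtain ⟨w, rfl⟩ := hf₂ c
      obtain ⟨a, ha⟩ := kN (z - φ₂ w) (by rw [map_sub, ← a3, hc]; exact sub_self _)
      refine ⟨g₁ a, ⟨a, hf₁ (by rw [← a2, ha, map_sub, LinearMap.mem_ker.1 hz, p2, sub_zero, map_zero]), rfl⟩, ?_⟩
      simp [ha])
  have e5 : Function.Exact F4 F5 := sqMap_exact
    (fun y hy => by simp [LinearMap.mem_ker.1 hy])
    (fun z hz ⟨_, ⟨a, rfl⟩, ha⟩ => ⟨z - g₁ a, by simp [a2, ha], by simp [B5, eN]⟩)
  have e0 : Function.Exact F5 F0 := sqMap_exact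
    (fun y _ => ⟨y, rfl⟩)
    (fun z ⟨b, hb, hbz⟩ ⟨w, hw⟩ => ⟨w, by
      show ψ₃ (g₂ w) = 0
      rw [a4, hw, show (LinearMap.id : M₂ →ₗ[R] M₂) z = z from rfl, ← hbz, eM], by
      simp [show ψ₂ w = z from hw]⟩)
  have l0 : Module.length R (Sq (ker φ₁) (range ψ₁)) = Module.length R (Sq Z0 B0) :=
    sq_length_eq f₁ (fun z hz => Submodule.mem_map_of_mem hz) (fun z _ hz => Submodule.mem_map_of_mem hz)
      (fun z _ ⟨w, hw, h⟩ => hf₁ h ▸ hw) (by rintro _ ⟨a, ha, rfl⟩; exact ⟨a, ha, by simp⟩)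
  have l3 : Module.length R (Sq (ker ψ₁) (range φ₁)) = Module.length R (Sq Z3 B3) :=
    sq_length_eq g₁ (fun z hz => Submodule.mem_map_of_mem hz) (fun z _ hz => Submodule.mem_map_of_mem hz)
      (fun z _ ⟨w, hw, h⟩ => hg₁ h ▸ hw) (by rintro _ ⟨a, ha, rfl⟩; exact ⟨a, ha, by simp⟩)
  have l2 : Module.length R (Sq Z2 B2) = Module.length R (Sq (ker φ₃) (range ψ₃)) :=
    sq_length_eq f₂ (fun z hz => hz) (fun z _ hz => hz) (fun z _ hz => hz)
      (fun z hz => by obtain ⟨w, rfl⟩ := hf₂ z; exact ⟨w, hz, by simp⟩)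
  have l5 : Module.length R (Sq Z5 B5) = Module.length R (Sq (ker ψ₃) (range φ₃)) :=
    sq_length_eq g₂ (fun z hz => hz) (fun z _ hz => hz) (fun z _ hz => hz)
      (fun z hz => by obtain ⟨w, rfl⟩ := hg₂ z; exact ⟨w, hz, by simp⟩)
  have fin : FinCoh R φ₁ ψ₁ ∧ FinCoh R φ₂ ψ₂ ∧ FinCoh R φ₃ ψ₃ := by
    simp only [FinCoh] at htwo ⊢
    change ((Module.length R (Sq _ _) < ⊤ ∧ Module.length R (Sq _ _) < ⊤) ∧
      (Module.length R (Sq _ _) < ⊤ ∧ Module.length R (Sq _ _) < ⊤)) ∨ _ at htwo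
    rcases htwo with ⟨⟨b0, b3⟩, b1, b4⟩ | ⟨⟨b0, b3⟩, b2, b5⟩ | ⟨⟨b1, b4⟩, b2, b5⟩
    · refine ⟨⟨b0, b3⟩, ⟨b1, b4⟩, ?_, ?_⟩
      · exact l2 ▸ length_lt_top_of_exact F1 F2 e2 b1 (l3 ▸ b3)
      · exact l5 ▸ length_lt_top_of_exact F4 F5 e5 b4 (l0 ▸ b0)
    · refine ⟨⟨b0, b3⟩, ⟨?_, ?_⟩, b2, b5⟩
      · exact length_lt_top_of_exact F0 F1 e1 (l0 ▸ b0) (l2 ▸ b2)
      · exact length_lt_top_of_exact F3 F4 e4 (l3 ▸ b3) (l5 ▸ b5)
    · refine ⟨⟨?_, ?_⟩, ⟨b1, b4⟩, b2, b5⟩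
      · exact l0 ▸ length_lt_top_of_exact F5 F0 e0 (l5 ▸ b5) b1
      · exact l3 ▸ length_lt_top_of_exact F2 F3 e3 (l2 ▸ b2) b4
  refine ⟨fin.1, fin.2.1, fin.2.2, ?_⟩
  have h := hexagon e1 e2 e3 e4 e5 e0 (l0 ▸ fin.1.1) fin.2.1.1 (l2 ▸ fin.2.2.1) (l3 ▸ fin.1.2) fin.2.1.2
    (l5 ▸ fin.2.2.2)
  rw [← l0, l2, ← l3, l5] at h
  simp only [herbrand]
  linarith

theorem herbrand_eq_length_sub {M N : Type v} [AddCommGroup M] [Module R M] [AddCommGroup N] [Module R N]
    (φ : M →ₗ[R] N) (ψ : N →ₗ[R] M) (h : IsPeriodic φ ψ) (hM : Module.length R M < ⊤) (hN : Module.length R N < ⊤) :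
    FinCoh R φ ψ ∧ herbrand R φ ψ = ((Module.length R M).toNat : ℤ) - ((Module.length R N).toNat : ℤ) := by
  have key : ∀ {M N : Type v} [AddCommGroup M] [Module R M] [AddCommGroup N] [Module R N]
      (φ : M →ₗ[R] N) (ψ : N →ₗ[R] M), φ ∘ₗ ψ = 0 → Module.length R M < ⊤ →
      Module.length R (perH φ ψ) < ⊤ ∧
      (Module.length R M).toNat = (Module.length R (range ψ)).toNat + (Module.length R (perH φ ψ)).toNat +
        (Module.length R (range φ)).toNat := by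
    intro M N _ _ _ _ φ ψ h hM
    have hle : range ψ ≤ ker φ := LinearMap.range_le_ker_iff.2 h
    have h1 := Module.length_eq_add_of_exact (ker φ).subtype φ.rangeRestrict (ker φ).injective_subtype
      φ.surjective_rangeRestrict (fun b => by
        simp only [Submodule.coe_subtype, Subtype.range_coe_subtype]; rw [← Subtype.coe_inj]; rfl)
    have h2 := length_sq_add (bot_le : ⊥ ≤ range ψ) hle
    rw [length_sq_bot, length_sq_bot] at h2
    rw [h1, h2] at hM ⊢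
    obtain ⟨⟨hb, hc⟩, hd⟩ := WithTop.add_lt_top.1 hM |>.imp WithTop.add_lt_top.1 id
    refine ⟨hc, ?_⟩
    erw [ENat.toNat_add (WithTop.add_lt_top.2 ⟨hb, hc⟩).ne hd.ne, ENat.toNat_add hb.ne hc.ne]
  obtain ⟨a1, a2⟩ := key φ ψ h.1 hM
  obtain ⟨b1, b2⟩ := key ψ φ h.2 hN
  refine ⟨⟨a1, b1⟩, ?_⟩
  simp only [herbrand]
  omega

theorem herbrand_eq_zero_of_finite {M : Type v} [AddCommGroup M] [Module R M] (φ ψ : M →ₗ[R] M)
    (h : IsPeriodic φ ψ) (hM : Module.length R M < ⊤) : FinCoh R φ ψ ∧ herbrand R φ ψ = 0 :=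
  (herbrand_eq_length_sub φ ψ h hM hM).imp_right fun e => by rw [e, sub_self]

theorem herbrand_eq_of_finite_ker_coker {M M' : Type v} [AddCommGroup M] [Module R M] [AddCommGroup M']
    [Module R M'] (φ ψ : M →ₗ[R] M) (φ' ψ' : M' →ₗ[R] M') (h : IsPeriodic φ ψ) (h' : IsPeriodic φ' ψ')
    (f : M →ₗ[R] M') (cφ : φ' ∘ₗ f = f ∘ₗ φ) (cψ : ψ' ∘ₗ f = f ∘ₗ ψ) (hfin : FinCoh R φ ψ)
    (hker : Module.length R (ker f) < ⊤) (hcoker : Module.length R (M' ⧸ range f) < ⊤) :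
    herbrand R φ ψ = herbrand R φ' ψ' := by
  have aφ : ∀ x, φ' (f x) = f (φ x) := LinearMap.congr_fun cφ
  have aψ : ∀ x, ψ' (f x) = f (ψ x) := LinearMap.congr_fun cψ
  have q1 : ∀ x, φ (ψ x) = 0 := LinearMap.congr_fun h.1
  have q2 : ∀ x, ψ (φ x) = 0 := LinearMap.congr_fun h.2
  have q1' : ∀ x, φ' (ψ' x) = 0 := LinearMap.congr_fun h'.1
  have q2' : ∀ x, ψ' (φ' x) = 0 := LinearMap.congr_fun h'.2
  let φK := φ.restrict (p := ker f) (q := ker f) fun x hx => by simp [← aφ, LinearMap.mem_ker.1 hx]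
  let ψK := ψ.restrict (p := ker f) (q := ker f) fun x hx => by simp [← aψ, LinearMap.mem_ker.1 hx]
  let φI := φ'.restrict (p := range f) (q := range f) fun x ⟨y, hy⟩ => hy ▸ ⟨φ y, (aφ y).symm⟩
  let ψI := ψ'.restrict (p := range f) (q := range f) fun x ⟨y, hy⟩ => hy ▸ ⟨ψ y, (aψ y).symm⟩
  let φC := (range f).mapQ (range f) φ' fun x ⟨y, hy⟩ => hy ▸ ⟨φ y, (aφ y).symm⟩
  let ψC := (range f).mapQ (range f) ψ' fun x ⟨y, hy⟩ => hy ▸ ⟨ψ y, (aψ y).symm⟩
  have hperI : IsPeriodic φI ψI :=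
    ⟨LinearMap.ext fun x => Subtype.ext (q1' x.1), LinearMap.ext fun x => Subtype.ext (q2' x.1)⟩
  obtain ⟨fK, eK⟩ := herbrand_eq_zero_of_finite φK ψK
    ⟨LinearMap.ext fun x => Subtype.ext (q1 x.1), LinearMap.ext fun x => Subtype.ext (q2 x.1)⟩ hker
  obtain ⟨fC, eC⟩ := herbrand_eq_zero_of_finite φC ψC
    ⟨Submodule.linearMap_qext _ (LinearMap.ext fun x => (congrArg (Submodule.Quotient.mk) (q1' x)).trans rfl),
     Submodule.linearMap_qext _ (LinearMap.ext fun x => (congrArg (Submodule.Quotient.mk) (q2' x)).trans rfl)⟩ hcoker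
  obtain ⟨-, -, fI, e1⟩ := herbrand_shortExact φK ψK φ ψ φI ψI h (ker f).subtype (ker f).subtype
    f.rangeRestrict f.rangeRestrict rfl rfl (LinearMap.ext fun x => Subtype.ext (aφ x))
    (LinearMap.ext fun x => Subtype.ext (aψ x)) (ker f).injective_subtype (ker f).injective_subtype
    f.surjective_rangeRestrict f.surjective_rangeRestrict (by rw [Submodule.range_subtype, ker_rangeRestrict])
    (by rw [Submodule.range_subtype, ker_rangeRestrict]) (Or.inl ⟨fK, hfin⟩)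
  obtain ⟨-, -, -, e2⟩ := herbrand_shortExact φI ψI φ' ψ' φC ψC h' (range f).subtype (range f).subtype
    (range f).mkQ (range f).mkQ rfl rfl (LinearMap.ext fun x => rfl) (LinearMap.ext fun x => rfl)
    (range f).injective_subtype (range f).injective_subtype (Submodule.mkQ_surjective _) (Submodule.mkQ_surjective _)
    (by rw [Submodule.range_subtype, Submodule.ker_mkQ]) (by rw [Submodule.range_subtype, Submodule.ker_mkQ])
    (Or.inr (Or.inl ⟨fI, fC⟩))
  rw [e2, e1, eK, eC]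
  ring

theorem herbrand_pow_eq_zero {M : Type v} [AddCommGroup M] [Module R M] (φ : M →ₗ[R] M) (n : ℕ) (hn : 0 < n)
    (hφ : φ ^ n = 0) (hfin : Module.length R (perH φ (φ ^ (n - 1))) < ⊤) (i : ℕ) (hi : i ≤ n) :
    FinCoh R (φ ^ i) (φ ^ (n - i)) ∧ herbrand R (φ ^ i) (φ ^ (n - i)) = 0 := by
  have hpow : ∀ (a b : ℕ) (z : M), (φ ^ (a + b)) z = (φ ^ a) ((φ ^ b) z) := fun a b z => by
    rw [pow_add]; rfl
  have hz : ∀ (a b : ℕ) (z : M), n ≤ a + b → (φ ^ a) ((φ ^ b) z) = 0 := fun a b z h => by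
    rw [← hpow, ← Nat.sub_add_cancel h, hpow, hφ]; simp
  let H : ℕ → Type v := fun j => Sq (ker (φ ^ j)) (range (φ ^ (n - j)))
  have hker : ∀ j (z : M), z ∈ ker (φ ^ j) ↔ (φ ^ j) z = 0 := fun j z => LinearMap.mem_ker
  -- the maps
  let u : ∀ j, j + 1 ≤ n → (H 1 →ₗ[R] H (j + 1)) := fun j hj => sqMap LinearMap.id
    (fun z hz => by
      rw [hker] at hz ⊢
      rw [hpow, LinearMap.id_apply, hz, map_zero])
    (fun z _ ⟨w, hw⟩ => ⟨(φ ^ j) w, by rw [← hpow, show n - (j + 1) + j = n - 1 by omega]; exact hw⟩)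
  let v : ∀ j, j + 1 ≤ n → (H (j + 1) →ₗ[R] H j) := fun j hj => sqMap φ
    (fun z hz => by
      rw [hker] at hz ⊢
      rw [hpow, pow_one] at hz
      exact hz)
    (fun z _ ⟨w, hw⟩ => ⟨w, by rw [← hw, show n - j = 1 + (n - (j + 1)) by omega, hpow, pow_one]⟩)
  have e1 : ∀ j (hj : j + 1 ≤ n), Function.Exact (u j hj) (v j hj) := fun j hj => sqMap_exact
    (fun y hy => by rw [hker, pow_one] at hy; simp [hy])
    (fun z hz ⟨w, hw⟩ => ⟨z - (φ ^ (n - (j + 1))) w, by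
      rw [hker, pow_one, map_sub, ← hw, show n - j = 1 + (n - (j + 1)) by omega, hpow, pow_one, sub_self],
      ⟨w, by simp⟩⟩)
  have fin : ∀ j, j ≤ n → Module.length R (H j) < ⊤ := by
    intro j
    induction j with
    | zero =>
      intro _
      refine length_sq_le_top ?_
      rw [show ker (φ ^ 0) = ⊥ from ker_id, Module.length_bot]
      exact WithTop.top_pos
    | succ j ih =>
      intro hj
      refine length_lt_top_of_exact _ _ (e1 j hj) ?_ (ih (by omega))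
      show Module.length R (Sq (ker (φ ^ 1)) (range (φ ^ (n - 1)))) < ⊤
      rw [pow_one]
      exact hfin
  let g : ℕ → ℤ := fun j => ((Module.length R (H j)).toNat : ℤ)
  have hrec : ∀ j, j + 1 ≤ n → g 1 - g (n - 1) - (g (j + 1) - g (n - (j + 1))) + (g j - g (n - j)) = 0 := by
    intro j hj
    let w : H j →ₗ[R] H (n - 1) := sqMap LinearMap.id
      (fun z hz => by
        rw [hker] at hz ⊢
        rw [LinearMap.id_apply, show n - 1 = (n - 1 - j) + j by omega, hpow, hz, map_zero])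
      (fun z _ ⟨y, hy⟩ => ⟨(φ ^ (n - j - 1)) y, by
        rw [← hpow, show n - (n - 1) + (n - j - 1) = n - j by omega]; exact hy⟩)
    let x : H (n - 1) →ₗ[R] H (n - (j + 1)) := sqMap (φ ^ j)
      (fun z hz => by
        rw [hker] at hz ⊢
        rwa [← hpow, show n - (j + 1) + j = n - 1 by omega])
      (fun z _ ⟨y, hy⟩ => ⟨y, by
        rw [← hy, ← hpow, show j + (n - (n - 1)) = n - (n - (j + 1)) by omega]⟩)
    let y : H (n - (j + 1)) →ₗ[R] H (n - j) := sqMap LinearMap.id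
      (fun z hz => by
        rw [hker] at hz ⊢
        rw [LinearMap.id_apply, show n - j = 1 + (n - (j + 1)) by omega, hpow, hz, map_zero])
      (fun z _ ⟨y, hy⟩ => ⟨φ y, by
        rw [← hy, show n - (n - (j + 1)) = (n - (n - j)) + 1 by omega, hpow, pow_one]; rfl⟩)
    let t : H (n - j) →ₗ[R] H 1 := sqMap (φ ^ (n - (j + 1)))
      (fun z hz => by
        rw [hker] at hz ⊢
        rwa [← hpow, show 1 + (n - (j + 1)) = n - j by omega])
      (fun z _ ⟨y, hy⟩ => ⟨y, by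
        rw [← hy, ← hpow, show n - (j + 1) + (n - (n - j)) = n - 1 by omega]⟩)
    have e2 : Function.Exact (v j hj) w := sqMap_exact
      (fun a _ => ⟨a, by rw [show n - (n - 1) = 1 by omega, pow_one]; rfl⟩)
      (fun z hz ⟨a, ha⟩ => by
        rw [show n - (n - 1) = 1 by omega, pow_one] at ha
        have ha' : φ a = z := ha
        refine ⟨a, ?_, by simp [ha']⟩
        rw [hker] at hz ⊢
        rw [hpow, pow_one, ha', hz])
    have e3 : Function.Exact w x := sqMap_exact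
      (fun a ha => by rw [LinearMap.id_apply, LinearMap.mem_ker.1 ha]; exact zero_mem _)
      (fun z hz ⟨a, ha⟩ => by
        rw [show n - (n - (j + 1)) = j + 1 by omega, hpow, pow_one] at ha
        refine ⟨z - φ a, ?_, ⟨a, by rw [show n - (n - 1) = 1 by omega, pow_one]; simp⟩⟩
        rw [hker, map_sub, ha, sub_self])
    have e4 : Function.Exact x y := sqMap_exact
      (fun a _ => ⟨a, by rw [show n - (n - j) = j by omega]; rfl⟩)
      (fun z hz ⟨a, ha⟩ => by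
        rw [show n - (n - j) = j by omega] at ha
        have ha' : (φ ^ j) a = z := ha
        refine ⟨a, ?_, by simp [ha']⟩
        rw [hker] at hz ⊢
        rwa [show n - 1 = n - (j + 1) + j by omega, hpow, ha'])
    have e5 : Function.Exact y t := sqMap_exact
      (fun a ha => by rw [LinearMap.id_apply, LinearMap.mem_ker.1 ha]; exact zero_mem _)
      (fun z hz ⟨a, ha⟩ => by
        rw [show n - 1 = n - (j + 1) + j by omega, hpow] at ha
        refine ⟨z - (φ ^ j) a, ?_, ⟨a, by rw [show n - (n - j) = j by omega]; simp⟩⟩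
        rw [hker, map_sub, ha, sub_self])
    have e0 : Function.Exact t (u j hj) := sqMap_exact
      (fun a _ => ⟨a, rfl⟩)
      (fun z hz ⟨a, ha⟩ => by
        have ha' : (φ ^ (n - (j + 1))) a = z := ha
        refine ⟨a, ?_, by simp [ha']⟩
        rw [hker] at hz ⊢
        rwa [show n - j = 1 + (n - (j + 1)) by omega, hpow, ha'])
    have := hexagon (e1 j hj) e2 e3 e4 e5 e0 (fin 1 (by omega)) (fin (j + 1) hj) (fin j (by omega))
      (fin (n - 1) (by omega)) (fin (n - (j + 1)) (by omega)) (fin (n - j) (by omega))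
    simp only [g]
    linarith
  have lin : ∀ j, j ≤ n → g j - g (n - j) = (j : ℤ) * (g 1 - g (n - 1)) + (g 0 - g n) := by
    intro j
    induction j with
    | zero => intro _; simp
    | succ j ih =>
      intro hj
      have := hrec j hj
      have := ih (by omega)
      push_cast
      linarith
  have h00 : g 0 - g n = 0 := by
    have h0 : ∀ j, (j = 0 ∨ j = n) → g j = 0 := by
      intro j hj
      haveI : Subsingleton (H j) := by
        refine ⟨fun a b => ?_⟩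
        obtain ⟨a, rfl⟩ := Submodule.Quotient.mk_surjective _ a
        obtain ⟨b, rfl⟩ := Submodule.Quotient.mk_surjective _ b
        refine (sq_mk_eq_mk _ _).2 ?_
        rcases hj with rfl | rfl
        · have ha : (a : M) = 0 := LinearMap.mem_ker.1 a.2
          have hb : (b : M) = 0 := LinearMap.mem_ker.1 b.2
          simp [ha, hb]
        · exact ⟨_, by rw [Nat.sub_self, pow_zero]; rfl⟩
      simp [g, Module.length_eq_zero]
    rw [h0 0 (Or.inl rfl), h0 n (Or.inr rfl), sub_self]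
  have h1 : g 1 - g (n - 1) = 0 := by
    have := lin n le_rfl
    rw [Nat.sub_self, h00, add_zero, show g n - g 0 = 0 by linarith] at this
    rcases mul_eq_zero.1 this.symm with h | h
    · exact absurd h (by exact_mod_cast hn.ne')
    · exact h
  have e : ∀ a b : ℕ, a = b → Module.length R (Sq (ker (φ ^ (n - i))) (range (φ ^ a))) =
      Module.length R (Sq (ker (φ ^ (n - i))) (range (φ ^ b))) := by rintro a b rfl; rfl
  have ei := e _ i (show n - (n - i) = i by omega)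
  refine ⟨⟨fin i hi, ?_⟩, ?_⟩
  · exact ei ▸ fin (n - i) (Nat.sub_le _ _)
  · have := lin i hi
    rw [h1, h00, mul_zero, add_zero] at this
    simp only [g, H, ei] at this
    exact this

theorem herbrand_smul_left {M : Type v} [AddCommGroup M] [Module R M] (φ ψ : M →ₗ[R] M)
    (hper : IsPeriodic φ ψ) (hfin : FinCoh R φ ψ) (x : R)
    (hI : Module.length R (perH (0 : range φ →ₗ[R] range φ) (x • LinearMap.id)) < ⊤)
    (hI' : Module.length R (perH (x • LinearMap.id) (0 : range φ →ₗ[R] range φ)) < ⊤) :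
    FinCoh R (x • φ) ψ ∧ herbrand R (x • φ) ψ =
      herbrand R φ ψ - herbrand R (0 : range φ →ₗ[R] range φ) (x • LinearMap.id) := by
  set z0 : range φ →ₗ[R] range φ := 0 with hz0
  set xI : range φ →ₗ[R] range φ := x • LinearMap.id with hxI
  have p1 : ∀ a, φ (ψ a) = 0 := LinearMap.congr_fun hper.1
  have p2 : ∀ a, ψ (φ a) = 0 := LinearMap.congr_fun hper.2
  -- `H⁰(x φ, ψ)`
  have hC : Submodule.map (range φ).subtype (ker xI) ≤ range φ := Submodule.map_subtype_le _ _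
  have l1 : Module.length R (perH (x • φ) ψ) = Module.length R (perH φ ψ) + Module.length R (perH xI z0) := by
    rw [show Module.length R (perH (x • φ) ψ) = _ from length_sq_add (Z := ker (x • φ)) (B := range ψ) (C := ker φ)
      (LinearMap.range_le_ker_iff.2 hper.1) (fun a ha => by simp [LinearMap.mem_ker.1 ha])]
    congr 1
    refine sq_length_eq (Z' := ker xI) (B' := range z0) φ.rangeRestrict ?_ ?_ ?_ ?_
    · intro a ha
      exact LinearMap.mem_ker.2 (Subtype.ext (by simpa [xI] using LinearMap.mem_ker.1 ha))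
    · intro a _ ha
      exact ⟨0, Subtype.ext (by simp [LinearMap.mem_ker.1 ha])⟩
    · rintro a - ⟨b, hb⟩
      exact LinearMap.mem_ker.2 (by simpa [z0] using (congrArg Subtype.val hb).symm)
    · rintro ⟨_, a, rfl⟩ ha
      refine ⟨a, LinearMap.mem_ker.2 ?_, ⟨0, Subtype.ext (by simp)⟩⟩
      simpa [xI] using congrArg Subtype.val (LinearMap.mem_ker.1 ha)
  -- `H¹(x φ, ψ)`
  have l2 : Module.length R (perH ψ (x • φ)) = Module.length R (perH z0 xI) + Module.length R (perH ψ φ) := by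
    rw [show Module.length R (perH ψ (x • φ)) = _ from length_sq_add (Z := ker ψ) (B := range (x • φ)) (C := range φ)
      (fun _ ⟨a, ha⟩ => ⟨x • a, by rw [← ha]; simp⟩) (LinearMap.range_le_ker_iff.2 hper.2)]
    congr 1
    refine (sq_length_eq (Z := ker z0) (B := range xI) (range φ).subtype (fun a _ => a.2) ?_ ?_ ?_).symm
    · rintro a - ⟨b, rfl⟩
      obtain ⟨c, hc⟩ := b.2
      exact ⟨c, by simp [xI, hc]⟩
    · rintro a - ⟨c, hc⟩
      exact ⟨⟨φ c, c, rfl⟩, Subtype.ext hc⟩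
    · rintro _ ⟨a, rfl⟩
      exact ⟨⟨φ a, a, rfl⟩, by simp [z0], by simp⟩
  have f1 : Module.length R (perH (x • φ) ψ) < ⊤ := l1 ▸ WithTop.add_lt_top.2 ⟨hfin.1, hI'⟩
  have f2 : Module.length R (perH ψ (x • φ)) < ⊤ := l2 ▸ WithTop.add_lt_top.2 ⟨hI, hfin.2⟩
  refine ⟨⟨f1, f2⟩, ?_⟩
  simp only [herbrand, l1, l2]
  rw [ENat.toNat_add hfin.1.ne hI'.ne, ENat.toNat_add hI.ne hfin.2.ne]
  push_cast
  ring

end Herbrand

section Local

open Pointwise

variable [IsNoetherianRing R] [IsLocalRing R]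

theorem length_lt_top_of_support {N : Type v} [AddCommGroup N] [Module R N] [Module.Finite R N]
    (h : ∀ p ∈ Module.support R N, p.asIdeal = IsLocalRing.maximalIdeal R) : Module.length R N < ⊤ := by
  haveI : IsArtinianRing (R ⧸ Module.annihilator R N) := by
    rw [isArtinianRing_iff_isNoetherianRing_krullDimLE_zero]
    refine ⟨inferInstance, Ring.KrullDimLE.mk₀ fun P hP => ?_⟩
    have hsurj := Ideal.Quotient.mk_surjective (I := Module.annihilator R N)
    haveI := hP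
    have hQ : P.comap (Ideal.Quotient.mk (Module.annihilator R N)) = IsLocalRing.maximalIdeal R :=
      h ⟨_, Ideal.IsPrime.comap _⟩ (Module.mem_support_iff_of_finite.2
        (fun a ha => Ideal.mem_comap.2 ((Ideal.Quotient.eq_zero_iff_mem.2 ha).symm ▸ P.zero_mem)))
    rw [← Ideal.map_comap_of_surjective _ hsurj P, hQ]
    exact (Ideal.map_eq_top_or_isMaximal_of_surjective _ hsurj inferInstance).resolve_left fun hh => hP.ne_top (by
      rw [← Ideal.map_comap_of_surjective _ hsurj P, hQ, hh])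
  letI : Module (R ⧸ Module.annihilator R N) N := Module.quotientAnnihilator
  haveI : IsScalarTower R (R ⧸ Module.annihilator R N) N := ⟨fun a b c => by
    obtain ⟨b, rfl⟩ := Ideal.Quotient.mk_surjective b
    exact (mul_smul a b c)⟩
  haveI : Module.Finite (R ⧸ Module.annihilator R N) N := Module.Finite.of_restrictScalars_finite R _ _
  haveI : IsArtinian R N := (isArtinian_of_surjective_algebraMap (Ideal.Quotient.mk_surjective (I := Module.annihilator R N)))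
  haveI : IsNoetherian R N := inferInstance
  exact Module.length_ne_top.lt_top

theorem mem_support_quot_smul {M : Type v} [AddCommGroup M] [Module R M] [Module.Finite R M] (x : R)
    {p : PrimeSpectrum R} (h : p ∈ Module.support R M) (hx : x ∈ p.asIdeal) :
    p ∈ Module.support R (M ⧸ x • (⊤ : Submodule R M)) := by
  rw [show x • (⊤ : Submodule R M) = Ideal.span {x} • ⊤ from (Submodule.ideal_span_singleton_smul x ⊤).symm,
    Module.support_quotient]
  exact ⟨h, by simpa using hx⟩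

theorem eq_maximalIdeal_of_supportDim {M : Type v} [AddCommGroup M] [Module R M]
    (h : Module.supportDim R M ≤ 0) {p : PrimeSpectrum R} (hp : p ∈ Module.support R M) :
    p.asIdeal = IsLocalRing.maximalIdeal R := by
  by_contra hne
  have hle : p.asIdeal ≤ IsLocalRing.maximalIdeal R := IsLocalRing.le_maximalIdeal p.2.ne_top
  let q : PrimeSpectrum R := IsLocalRing.closedPoint R
  have hq : q ∈ Module.support R M := Module.mem_support_mono hle hp
  haveI : Nonempty (Module.support R M) := ⟨⟨p, hp⟩⟩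
  have hlt : (⟨p, hp⟩ : Module.support R M) < ⟨q, hq⟩ :=
    lt_of_le_of_ne hle fun e => hne (congrArg (fun s : Module.support R M => s.1.asIdeal) e)
  let l : LTSeries (Module.support R M) := LTSeries.mk 1 ![⟨p, hp⟩, ⟨q, hq⟩] (by
    intro i j hij
    fin_cases i <;> fin_cases j <;> first | exact hlt | simp at hij)
  have := (Order.LTSeries.length_le_krullDim l).trans h
  simp [l] at this
  exact absurd this (by decide)

theorem length_perH_smul_lt_top {M : Type v} [AddCommGroup M] [Module R M] [Module.Finite R M] (x : R)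
    (hx : Module.supportDim R (M ⧸ x • (⊤ : Submodule R M)) ≤ 0) (I : Submodule R M) :
    Module.length R (CycAlg.perH (0 : I →ₗ[R] I) (x • LinearMap.id)) < ⊤ ∧
      Module.length R (CycAlg.perH (x • LinearMap.id) (0 : I →ₗ[R] I)) < ⊤ := by
  have key : ∀ (Q : Type v) [AddCommGroup Q] [Module R Q] [Module.Finite R Q],
      Module.support R Q ⊆ Module.support R I → (∀ q : Q, x • q = 0) → Module.length R Q < ⊤ := by
    intro Q _ _ _ hsub hann
    refine length_lt_top_of_support fun p hp => eq_maximalIdeal_of_supportDim hx (mem_support_quot_smul x ?_ ?_)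
    · exact Module.support_subset_of_injective I.subtype I.injective_subtype (hsub hp)
    · exact Module.mem_support_iff_of_finite.1 hp (Module.mem_annihilator.2 hann)
  constructor
  · refine key _ ((Module.support_subset_of_surjective _ (Submodule.mkQ_surjective _)).trans
      (Module.support_subset_of_injective _ (Submodule.injective_subtype _))) fun q => ?_
    obtain ⟨⟨a, ha⟩, rfl⟩ := Submodule.Quotient.mk_surjective _ q
    rw [← Submodule.Quotient.mk_smul, Submodule.Quotient.mk_eq_zero]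
    exact ⟨a, by simp⟩
  · refine key _ ((Module.support_subset_of_surjective _ (Submodule.mkQ_surjective _)).trans
      (Module.support_subset_of_injective _ (Submodule.injective_subtype _))) fun q => ?_
    obtain ⟨a, rfl⟩ := Submodule.Quotient.mk_surjective _ q
    rw [← Submodule.Quotient.mk_smul, show x • a = 0 from Subtype.ext (by simpa using LinearMap.mem_ker.1 a.2)]
    rfl

end Local

end Groth.Agent.CycAlgLib
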